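import Cfsg.Agent.Lib.Chevalley.Bruhat
import Cfsg.Agent.Lib.Chevalley.Roots

/-!
Integral functionals on the roots: a functional nonzero on every root has trivial stabiliser in the
Weyl group, and the stabiliser of a functional modulo a prime not dividing the order of the group.
-/

set_option autoImplicit false

namespace CfsgLib.Chevalley.CoxeterTorus

open Tbl Matrix

variable {T : Tbl} (hT : T.Valid)

/-- The value of a functional at a root. -/
def val (T : Tbl) (μ : Fin T.rank → ℤ) (s : ℕ) : ℤ := μ ⬝ᵥ fun j => T.co s j.val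

/-- The matrix of a permutation of the roots on the fundamental roots. -/
def mat (T : Tbl) (hT : T.Valid) (v : Equiv.Perm (Fin T.n)) : Matrix (Fin T.rank) (Fin T.rank) ℤ :=
  Matrix.of fun j k => T.co (v (T.simpF hT k)).val j.val

include hT

theorem mat_mulVec {v : Equiv.Perm (Fin T.n)} (hv : v ∈ T.WP hT) (s : Fin T.n) :
    mat T hT v *ᵥ (fun j => T.co s.val j.val) = fun j => T.co (v s).val j.val := by
  funext j
  rw [WP_linear hT hv s j.2]
  simp only [Matrix.mulVec, dotProduct, mat, Matrix.of_apply]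
  exact Finset.sum_congr rfl fun k _ => Int.mul_comm _ _

theorem mat_one : mat T hT 1 = 1 := by
  ext j k
  show T.co (T.simple k.val) j.val = _
  rw [co_simple hT k.2 j.2, Matrix.one_apply]
  simp [Fin.val_inj]

theorem mat_mul {v v' : Equiv.Perm (Fin T.n)} (hv : v ∈ T.WP hT) :
    mat T hT (v * v') = mat T hT v * mat T hT v' := by
  ext j k
  exact (congrFun (mat_mulVec hT hv (v' (T.simpF hT k))) j).symm

theorem mat_pow {v : Equiv.Perm (Fin T.n)} (hv : v ∈ T.WP hT) (i : ℕ) :
    mat T hT (v ^ i) = mat T hT v ^ i := by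
  induction i with
  | zero => rw [pow_zero, pow_zero, mat_one]
  | succ i ih => rw [pow_succ, pow_succ, mat_mul hT (pow_mem hv i), ih]

theorem val_perm {v : Equiv.Perm (Fin T.n)} (hv : v ∈ T.WP hT) (μ : Fin T.rank → ℤ) (s : Fin T.n) :
    val T μ (v s).val = val T (μ ᵥ* mat T hT v) s.val := by
  rw [val, val, ← Matrix.dotProduct_mulVec, mat_mulVec hT hv]

theorem val_simple (μ : Fin T.rank → ℤ) (i : Fin T.rank) : val T μ (T.simple i) = μ i := by
  rw [val, dotProduct, Finset.sum_eq_single i]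
  · simp [co_simple hT i.2 i.2]
  · intro j _ hj
    rw [co_simple hT i.2 j.2, if_neg fun e => hj (Fin.ext e), mul_zero]
  · simp

theorem val_negF (μ : Fin T.rank → ℤ) (s : Fin T.n) : val T μ (T.negF s).val = -val T μ s.val := by
  rw [val, val, ← dotProduct_neg]
  congr 1
  funext j
  exact co_neg hT s.2 j.2

theorem val_refP (μ : Fin T.rank → ℤ) (i : Fin T.rank) (t : Fin T.n) :
    val T μ (T.refP hT i t).val = val T μ t.val - T.ca i t.val * μ i := by
  simp only [val, dotProduct, refP_apply]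
  rw [eq_sub_iff_add_eq]
  have h : ∀ j : Fin T.rank, μ j * T.co t.val j.val =
      μ j * T.co (T.refl i t.val) j.val + if j = i then T.ca i t.val * μ i else 0 := by
    intro j
    rw [co_refl hT i.2 t.2 j.2]
    by_cases e : j = i
    · subst e; rw [if_pos rfl, if_pos rfl]; ring
    · rw [if_neg fun h => e (Fin.ext h), if_neg e]; ring
  rw [Finset.sum_congr rfl fun j _ => h j, Finset.sum_add_distrib, Finset.sum_ite_eq' Finset.univ i,
    if_pos (Finset.mem_univ _)]

theorem co_ne_zero (s : Fin T.n) : (fun j : Fin T.rank => T.co s.val j.val) ≠ 0 := by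
  intro h
  have hz : ∀ r < T.n, T.isPos r = true → (∀ j : Fin T.rank, T.co r j.val = 0) → False := by
    intro r hr hp h0
    have := ht_pos hT hr hp
    rw [ht, list_sum_range, Finset.sum_eq_zero fun j _ => h0 j] at this
    omega
  rcases Nat.lt_or_ge s.val T.half with hlt | hge
  · refine hz _ (T.negF s).2 (isPos_iff.2 (le_negF hlt)) fun j => ?_
    have := congrFun h j
    simp only [Pi.zero_apply] at this
    rw [negF, co_neg hT s.2 j.2, this, neg_zero]
  · exact hz _ s.2 (isPos_iff.2 hge) fun j => congrFun h j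

/-- Every root is the image of a fundamental one. -/
theorem exists_simple_image (s : Fin T.n) : ∃ u ∈ T.WP hT, ∃ i, u (T.simpF hT i) = s := by
  have h := root_induction hT (fun r => ∃ u ∈ T.WP hT, ∃ i, (u (T.simpF hT i)).val = r)
    (fun i hi => ⟨1, one_mem _, ⟨i, hi⟩, rfl⟩)
    (fun i hi r hr ⟨u, hu, k, hk⟩ => ⟨T.refP hT ⟨i, hi⟩ * u,
      mul_mem (by have := pw_mem hT [⟨i, hi⟩]; simpa [pw_cons, pw_nil] using this) hu, k, by
        rw [Equiv.Perm.mul_apply, refP_apply, hk]⟩) s.val s.2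
  obtain ⟨u, hu, i, hi⟩ := h
  exact ⟨u, hu, i, Fin.ext hi⟩

/-- The chamber of a regular functional is an image of the fundamental one. -/
theorem exists_chamber (μ : Fin T.rank → ℤ) (hreg : ∀ s : Fin T.n, val T μ s.val ≠ 0) :
    ∃ v ∈ T.WP hT, ∀ s : Fin T.n, T.half ≤ s.val → 0 < val T μ (v s).val := by
  classical
  let P : Equiv.Perm (Fin T.n) → Finset (Fin T.n) := fun v =>
    Finset.univ.filter fun s => T.half ≤ s.val ∧ 0 < val T μ (v s).val
  obtain ⟨v, hv, hmax⟩ := Finset.exists_max_image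
    (Finset.univ.filter fun v => v ∈ T.WP hT) (fun v => (P v).card)
    ⟨1, by simp [one_mem]⟩
  simp only [Finset.mem_filter, Finset.mem_univ, true_and] at hv hmax
  have hP : ∀ v s, s ∈ P v ↔ (T.half ≤ s.val ∧ 0 < val T μ (v s).val) := fun v s => by simp [P]
  have hsimple : ∀ i, 0 < val T μ (v (T.simpF hT i)).val := by
    intro i
    by_contra hneg
    have hlt : val T μ (v (T.simpF hT i)).val < 0 :=
      lt_of_le_of_ne (not_lt.1 hneg) (hreg _)
    have hr : T.refP hT i ∈ T.WP hT := by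
      have := pw_mem hT [i]
      simpa [pw_cons, pw_nil] using this
    have h1 := hmax (v * T.refP hT i) (mul_mem hv hr)
    have hsub : insert (T.simpF hT i) ((P v).image (T.refP hT i)) ⊆ P (v * T.refP hT i) := by
      intro t ht
      rw [Finset.mem_insert, Finset.mem_image] at ht
      rw [hP, Equiv.Perm.mul_apply]
      rcases ht with rfl | ⟨s, hs, rfl⟩
      · refine ⟨half_le_simpF hT i, ?_⟩
        rw [refP_simpF, WP_negF hT hv, val_negF hT]
        omega
      · rw [hP] at hs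
        refine ⟨refP_pos hT hs.1 fun e => ?_, ?_⟩
        · rw [e] at hs; omega
        · rw [← Equiv.Perm.mul_apply (T.refP hT i), refP_mul_self, Equiv.Perm.one_apply]
          exact hs.2
    have hnot : T.simpF hT i ∉ (P v).image (T.refP hT i) := by
      rw [Finset.mem_image]
      rintro ⟨s, hs, e⟩
      rw [hP] at hs
      have : s = T.refP hT i (T.simpF hT i) := by
        rw [← e, ← Equiv.Perm.mul_apply, refP_mul_self, Equiv.Perm.one_apply]
      rw [this, refP_simpF] at hs
      exact absurd hs.1 (not_le.2 (negF_lt (half_le_simpF hT i)))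
    have h2 := Finset.card_le_card hsub
    rw [Finset.card_insert_of_notMem hnot, Finset.card_image_of_injective _ (T.refP hT i).injective] at h2
    omega
  refine ⟨v, hv, fun s hs => ?_⟩
  rw [val_perm hT hv]
  have hnn : ∀ j : Fin T.rank, 0 < (μ ᵥ* mat T hT v) j := fun j => by
    have := hsimple j
    rw [val_perm hT hv, show (T.simpF hT j).val = T.simple j.val from rfl, val_simple hT] at this
    exact this
  obtain ⟨j, hj⟩ := Function.ne_iff.1 (co_ne_zero hT s)
  refine Finset.sum_pos' (fun k _ => mul_nonneg (hnn k).le (co_nonneg' hT hs k.2))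
    ⟨j, Finset.mem_univ _, mul_pos (hnn j) (lt_of_le_of_ne (co_nonneg' hT hs j.2) (Ne.symm hj))⟩

theorem eq_one_of_regular {u : Equiv.Perm (Fin T.n)} (hu : u ∈ T.WP hT) (μ : Fin T.rank → ℤ)
    (hreg : ∀ s : Fin T.n, val T μ s.val ≠ 0) (hfix : ∀ s : Fin T.n, val T μ (u s).val = val T μ s.val) :
    u = 1 := by
  obtain ⟨v, hv, hpos⟩ := exists_chamber hT μ hreg
  have h1 : v⁻¹ * u * v = 1 := by
    refine eq_one_of_pos hT (mul_mem (mul_mem (inv_mem hv) hu) hv) fun i => ?_
    by_contra hlt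
    rw [not_le] at hlt
    have h2 := hpos _ (le_negF hlt)
    rw [WP_negF hT hv, val_negF hT, ← Equiv.Perm.mul_apply v, ← mul_assoc, mul_inv_cancel_left,
      Equiv.Perm.mul_apply, hfix] at h2
    have h3 := hpos _ (half_le_simpF hT i)
    omega
  calc u = v * (v⁻¹ * u * v) * v⁻¹ := by group
    _ = 1 := by rw [h1]; group

/-- The stabiliser of a functional up to the kernel of `m ↦ ζ ^ m`. -/
def stab (T : Tbl) (hT : T.Valid) {A : Type*} [CommGroup A] (ζ : A) (a : Fin T.rank → ℤ) :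
    Subgroup (Equiv.Perm (Fin T.n)) where
  carrier := {u | u ∈ T.WP hT ∧ ∀ t : Fin T.n, ζ ^ val T a (u t).val = ζ ^ val T a t.val}
  one_mem' := ⟨one_mem _, fun _ => rfl⟩
  mul_mem' := fun {x y} hx hy => ⟨mul_mem hx.1 hy.1, fun t => by
    rw [Equiv.Perm.mul_apply, hx.2, hy.2]⟩
  inv_mem' := fun {x} hx => ⟨inv_mem hx.1, fun t => by
    rw [← hx.2 (x⁻¹ t), ← Equiv.Perm.mul_apply, mul_inv_cancel, Equiv.Perm.one_apply]⟩

variable {A : Type*} [CommGroup A] {ζ : A} {ℓ : ℕ} (hζ : orderOf ζ = ℓ)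
  (hcop : ℓ.Coprime (Nat.card (T.WP hT))) (a : Fin T.rank → ℤ)
include hζ hcop

/-- The averaged functional of a stabiliser. -/
theorem exists_average (S : Subgroup (Equiv.Perm (Fin T.n))) (hS : S ≤ T.WP hT)
    (hfix : ∀ u ∈ S, ∀ s : Fin T.n, ζ ^ val T a (u s).val = ζ ^ val T a s.val) :
    ∃ μ : Fin T.rank → ℤ, (∀ u ∈ S, ∀ s : Fin T.n, val T μ (u s).val = val T μ s.val) ∧
      ∀ s : Fin T.n, val T μ s.val = 0 → ζ ^ val T a s.val = 1 := by
  have : Fintype S := Fintype.ofFinite S
  let μ : Fin T.rank → ℤ := ∑ u : S, a ᵥ* mat T hT (u : Equiv.Perm (Fin T.n))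
  have hμ : ∀ s : Fin T.n, val T μ s.val = ∑ u : S, val T a ((u : Equiv.Perm (Fin T.n)) s).val := by
    intro s
    show (∑ u : S, a ᵥ* mat T hT (u : Equiv.Perm (Fin T.n))) ⬝ᵥ (fun j : Fin T.rank => T.co s.val j.val) = _
    rw [sum_dotProduct]
    exact Finset.sum_congr rfl fun u _ => (val_perm hT (hS u.2) a s).symm
  refine ⟨μ, fun u hu s => ?_, fun s hs => ?_⟩
  · rw [hμ, hμ]
    refine Fintype.sum_equiv (Equiv.mulRight (⟨u, hu⟩ : S)) _ _ fun v => ?_
    simp only [Equiv.coe_mulRight, Subgroup.coe_mul, Equiv.Perm.mul_apply]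
  · have h1 : (ζ ^ val T a s.val) ^ (Nat.card S) = 1 := by
      have h2 : ζ ^ val T μ s.val = ∏ u : S, ζ ^ val T a ((u : Equiv.Perm (Fin T.n)) s).val := by
        rw [hμ, zpow_sum_eq]
      rw [hs, zpow_zero, Finset.prod_congr rfl fun (u : S) _ => hfix u.1 u.2 s, Finset.prod_const,
        Finset.card_univ, ← Nat.card_eq_fintype_card] at h2
      exact h2.symm
    have h3 : (ζ ^ val T a s.val) ^ ℓ = 1 := by
      rw [← zpow_natCast, ← _root_.zpow_mul, mul_comm, _root_.zpow_mul, zpow_natCast, ← hζ, pow_orderOf_eq_one,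
        _root_.one_zpow]
    exact orderOf_eq_one_iff.1 (Nat.eq_one_of_dvd_coprimes
      (hcop.coprime_dvd_right (Subgroup.card_dvd_of_le hS))
      (orderOf_dvd_of_pow_eq_one h3) (orderOf_dvd_of_pow_eq_one h1))

theorem stab_trivial (hne : ∀ s : Fin T.n, ζ ^ val T a s.val ≠ 1) {u : Equiv.Perm (Fin T.n)}
    (hu : u ∈ T.WP hT) (hfix : ∀ s : Fin T.n, ζ ^ val T a (u s).val = ζ ^ val T a s.val) : u = 1 := by
  obtain ⟨μ, h1, h2⟩ := exists_average hT hζ hcop a (stab T hT ζ a) (fun v hv => hv.1) fun v hv => hv.2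
  exact eq_one_of_regular hT hu μ (fun s h => hne s (h2 s h)) (h1 u ⟨hu, hfix⟩)

/-- With an irreducible twisting permutation no root is in the kernel. -/
theorem regular {v : Equiv.Perm (Fin T.n)} (hv : v ∈ T.WP hT) (hnz : ∃ s : Fin T.n, ζ ^ val T a s.val ≠ 1)
    {q : ℕ} (hrel : ∀ s : Fin T.n, ζ ^ val T a (v s).val = (ζ ^ val T a s.val) ^ q)
    (hirr : ∀ μ x : Fin T.rank → ℤ, x ≠ 0 → (∀ i : ℕ, μ ⬝ᵥ (mat T hT v ^ i *ᵥ x) = 0) → μ = 0)
    (s : Fin T.n) : ζ ^ val T a s.val ≠ 1 := by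
  intro hs
  let S := stab T hT ζ a
  obtain ⟨μ, h1, h2⟩ := exists_average hT hζ hcop a S (fun u hu => hu.1) fun u hu => hu.2
  have horb : ∀ i : ℕ, ζ ^ val T a ((v ^ i) s).val = 1 := by
    intro i
    induction i with
    | zero => exact hs
    | succ i ih => rw [pow_succ', Equiv.Perm.mul_apply, hrel, ih, one_pow]
  have hzero : ∀ β : Fin T.n, ζ ^ val T a β.val = 1 → val T μ β.val = 0 := by
    intro β hβ
    obtain ⟨u, hu, k, rfl⟩ := exists_simple_image hT β
    have hr : T.refP hT k ∈ T.WP hT := by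
      have := pw_mem hT [k]
      simpa [pw_cons, pw_nil] using this
    have hρ : u * T.refP hT k * u⁻¹ ∈ S := by
      refine ⟨mul_mem (mul_mem hu hr) (inv_mem hu), fun t => ?_⟩
      rw [Equiv.Perm.mul_apply, Equiv.Perm.mul_apply, val_perm hT hu, val_refP hT,
        _root_.zpow_sub, mul_comm (T.ca _ _), _root_.zpow_mul]
      have hk : ζ ^ (a ᵥ* mat T hT u) k = 1 := by
        rw [← val_simple hT (a ᵥ* mat T hT u) k, show T.simple k.val = (T.simpF hT k).val from rfl,
          ← val_perm hT hu]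
        exact hβ
      rw [hk, _root_.one_zpow, inv_one, mul_one, ← val_perm hT hu, ← Equiv.Perm.mul_apply, mul_inv_cancel,
        Equiv.Perm.one_apply]
    have h3 := h1 _ hρ (u (T.simpF hT k))
    rw [Equiv.Perm.mul_apply, Equiv.Perm.mul_apply, ← Equiv.Perm.mul_apply u⁻¹, inv_mul_cancel,
      Equiv.Perm.one_apply, refP_simpF, WP_negF hT hu, val_negF hT] at h3
    omega
  obtain ⟨t, ht⟩ := hnz
  refine ht (h2 t ?_)
  have hμ : μ = 0 := by
    refine hirr μ (fun j => T.co s.val j.val) (co_ne_zero hT s) fun i => ?_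
    rw [← mat_pow hT hv, mat_mulVec hT (pow_mem hv i)]
    exact hzero _ (horb i)
  rw [hμ, val, zero_dotProduct]

end CfsgLib.Chevalley.CoxeterTorus
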