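import Cfsg.Agent.Lib.Chevalley.CoxeterTorus.Linear
import Cfsg.Agent.Lib.Chevalley.CoxeterTorus.Weyl
import Cfsg.Agent.Lib.Chevalley.Twist.ToriGen
import Cfsg.Agent.Lib.KnownB.FieldAut.Fixed

/-!
Self-centralising cyclic subgroups of order `Φ_e(q)` in the Chevalley groups with trivial Cartan
cokernel, for `φ(e)` equal to the rank: centralisers of elements of prime order `ℓ ∣ Φ_e(q)`.
-/

set_option autoImplicit false

namespace CfsgLib.Chevalley.CoxeterTorus

open Tbl
open scoped Matrix
open CfsgLib.KnownB.FieldAut (mapGL mapGL_inj map_torus map_group map_rootGen fixed_mem)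

variable {T : Tbl} {K : Type*} [Field K]

/-- The character on the roots of a torus parameter. -/
def tCh (T : Tbl) (f : Fin T.rank → Kˣ) (s : ℕ) : Kˣ := ∏ i, f i ^ T.ca i s

variable (hT : T.Valid)
include hT

theorem tCh_linear (f : Fin T.rank → Kˣ) (s : Fin T.n) :
    tCh T f s.val = ∏ j : Fin T.rank, tCh T f (T.simple j.val) ^ T.co s.val j.val := by
  simp only [tCh]
  have e : ∀ i : Fin T.rank, f i ^ T.ca i s.val =
      ∏ j : Fin T.rank, (f i ^ T.ca i (T.simple j)) ^ T.co s.val j := by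
    intro i
    rw [ca_eq hT s.2 i.2, list_sum_range, zpow_sum_eq]
    exact Finset.prod_congr rfl fun j _ => by rw [← _root_.zpow_mul, mul_comm]
  rw [Finset.prod_congr rfl fun i _ => e i, Finset.prod_comm]
  exact Finset.prod_congr rfl fun j _ => (Finset.prod_zpow _ _ _)

theorem torus_xU (f : Fin T.rank → Kˣ) (s : Fin T.n) (t : K) :
    torusHom T K f * T.xU K s.val t = T.xU K s.val ((tCh T f s.val : K) * t) * torusHom T K f :=
  dU_conj_X hT (isChar_prod hT f) s.2 t

theorem torus_congr {f g : Fin T.rank → Kˣ} (h : ∀ s : Fin T.n, tCh T f s.val = tCh T g s.val) :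
    torusHom T K f = torusHom T K g :=
  dU_congr fun s hs => h ⟨s, hs⟩

/-- Conjugation of a torus element by a monomial one. -/
theorem mono_rel {m : GL T.I K} {w : Equiv.Perm (Fin T.n)} (hmN : m ∈ T.datum.monomialSubgroup K)
    (hm : T.Mono m w) (f g : Fin T.rank → Kˣ) :
    m * torusHom T K f = torusHom T K g * m ↔ ∀ s : Fin T.n, tCh T g (w s).val = tCh T f s.val := by
  have key : ∀ g : Fin T.rank → Kˣ, m * torusHom T K f = torusHom T K g * m →
      ∀ s : Fin T.n, tCh T g (w s).val = tCh T f s.val := by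
    intro g hg s
    obtain ⟨c, hc⟩ := hm.conj s
    have h1 : torusHom T K g * m * T.xU K s.val 1 =
        T.xU K (w s).val ((tCh T g (w s).val : K) * c) * (torusHom T K g * m) := by
      rw [mul_assoc, (hc 1).1, ← mul_assoc, torus_xU hT, mul_one, mul_assoc]
    have h2 : m * torusHom T K f * T.xU K s.val 1 =
        T.xU K (w s).val ((c : K) * tCh T f s.val) * (m * torusHom T K f) := by
      rw [mul_assoc, torus_xU hT, ← mul_assoc, (hc _).1, mul_one, mul_assoc]
    rw [hg, h1] at h2
    refine Units.ext (mul_left_cancel₀ c.ne_zero ?_)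
    rw [← xU_inj hT (w s).2 (mul_right_cancel h2), mul_comm]
  refine ⟨key g, fun h => ?_⟩
  obtain ⟨k, hk⟩ : ∃ k, torusHom T K k = m * torusHom T K f * m⁻¹ := by
    rw [← MonoidHom.mem_range, torusHom_range hT]
    refine conj_diag hT hmN ?_
    rw [← torusHom_range hT]
    exact ⟨f, rfl⟩
  have hk' : m * torusHom T K f = torusHom T K k * m := by rw [hk, inv_mul_cancel_right]
  rw [hk']
  congr 1
  refine torus_congr hT fun s => ?_
  have h3 := key k hk' (w⁻¹ s)
  have h4 := h (w⁻¹ s)
  rw [← Equiv.Perm.mul_apply, mul_inv_cancel, Equiv.Perm.one_apply] at h3 h4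
  rw [h3, h4]

variable (hC : T.chkComm = true)
include hC

/-- A regular torus element commutes with no other positive unipotent element. -/
theorem unip_trivial {f : Fin T.rank → Kˣ} (hreg : ∀ s : Fin T.n, tCh T f s.val ≠ 1) {u : GL T.I K}
    (hu : u ∈ T.rootGen K (fun r => T.half ≤ r)) (hc : torusHom T K f * u = u * torusHom T K f) :
    u = 1 := by
  have h2n : T.half + T.half = T.n := (Nat.two_mul _).symm
  obtain ⟨a, rfl⟩ := exists_uProd hT hC T.half T.half h2n le_rfl u hu
  have e1 : MulAut.conj (torusHom T K f) (T.uProd a T.half T.half) =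
      T.uProd (fun r => (tCh T f r : K) * a r) T.half T.half := by
    simp only [uProd, map_list_prod, List.map_map]
    refine congrArg List.prod (List.map_congr_left fun r hr => ?_)
    simp only [List.mem_range'_1] at hr
    show torusHom T K f * T.xU K r (a r) * (torusHom T K f)⁻¹ = _
    rw [torus_xU hT f ⟨r, by omega⟩, mul_inv_cancel_right]
  have e2 : MulAut.conj (torusHom T K f) (T.uProd a T.half T.half) = T.uProd a T.half T.half := by
    rw [MulAut.conj_apply, hc, mul_inv_cancel_right]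
  have h0 := uProd_inj hT hC T.half T.half h2n le_rfl _ _ (e1.symm.trans e2)
  simp only [uProd]
  refine List.prod_eq_one fun x hx => ?_
  obtain ⟨r, hr, rfl⟩ := List.mem_map.1 hx
  simp only [List.mem_range'_1] at hr
  have h1 := h0 r hr.1 (by omega)
  have ha : a r = 0 := by
    by_contra ha
    exact hreg ⟨r, by omega⟩ (Units.ext (mul_right_cancel₀ ha (by rw [Units.val_one, one_mul]; exact h1)))
  rw [ha]
  exact xU_zero hT (by omega)

/-- An element carrying one torus element to another, in Bruhat normal form. -/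
theorem decompose {y : GL T.I K} (hy : y ∈ T.datum.group K) {f g : Fin T.rank → Kˣ}
    (h : torusHom T K g * y = y * torusHom T K f) :
    ∃ u1 ∈ T.rootGen K (fun r => T.half ≤ r), ∃ m ∈ T.datum.monomialSubgroup K,
      ∃ w ∈ T.WP hT, ∃ u ∈ T.rootGen K (fun r => T.half ≤ r), T.Mono m w ∧ y = u1 * m * u ∧
        torusHom T K g * u1 = u1 * torusHom T K g ∧ torusHom T K f * u = u * torusHom T K f ∧
        ∀ s : Fin T.n, tCh T g (w s).val = tCh T f s.val := by
  obtain ⟨b, hb, n, hn, w, hw, hm, u, hu, rfl⟩ := exists_canonical hT hC hy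
  obtain ⟨u1, hu1, h1, hh1, rfl⟩ := (mem_borel_iff hT).mp hb
  rw [posUnipotent_rootGen hT] at hu1
  have hupos : u ∈ T.rootGen K (fun r => T.half ≤ r) := rootGen_mono (fun r _ h => h.2.1) hu
  set m := h1 * n with hmdef
  have hmN : m ∈ T.datum.monomialSubgroup K := mul_mem (diag_le_N hT hh1) hn
  have hmm : T.Mono m w := by simpa using (mono_diag hT hh1).mul hm
  set t := torusHom T K f with ht
  set t' := torusHom T K g with ht'
  have htd : t ∈ T.datum.diagonalSubgroup K := by rw [← torusHom_range hT]; exact ⟨f, rfl⟩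
  have htd' : t' ∈ T.datum.diagonalSubgroup K := by rw [← torusHom_range hT]; exact ⟨g, rfl⟩
  have hv1 : t' * u1 * t'⁻¹ ∈ T.rootGen K (fun r => T.half ≤ r) :=
    (Subgroup.mem_normalizer_iff.mp (diag_le_normalizer hT _ htd') u1).mp hu1
  have hv2 : t⁻¹ * u * t ∈ T.rootGen K (T.negSet w) := by
    have := (Subgroup.mem_normalizer_iff.mp (diag_le_normalizer hT (T.negSet w) (inv_mem htd)) u).mp hu
    rwa [inv_inv] at this
  have hd := conj_diag hT hmN htd
  have hB : ∀ v ∈ T.rootGen K (fun r => T.half ≤ r), ∀ k ∈ T.datum.diagonalSubgroup K,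
      v * k ∈ T.datum.borelSubgroup K := fun v hv k hk =>
    mul_mem (Subgroup.mem_sup_left (by rw [posUnipotent_rootGen hT]; exact hv)) (Subgroup.mem_sup_right hk)
  have he : t' * u1 * t'⁻¹ * t' * m * u = u1 * (m * t * m⁻¹) * m * (t⁻¹ * u * t) := by
    calc t' * u1 * t'⁻¹ * t' * m * u = t' * (u1 * h1 * n * u) := by rw [hmdef]; group
      _ = u1 * h1 * n * u * t := h
      _ = u1 * (m * t * m⁻¹) * m * (t⁻¹ * u * t) := by rw [hmdef]; group
  obtain ⟨-, h2⟩ := canonical_unique hT hC (hB _ hv1 _ htd') (hB _ hu1 _ hd) hmN hmN hmm hu hv2 he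
  obtain ⟨eb, eu⟩ := h2 hmm rfl
  have h3 : u1⁻¹ * (t' * u1 * t'⁻¹) ∈ (⊥ : Subgroup (GL T.I K)) := by
    rw [← pos_inf_diag (T := T) (F := K) hT, posUnipotent_rootGen hT]
    refine Subgroup.mem_inf.mpr ⟨mul_mem (inv_mem hu1) hv1, ?_⟩
    have : u1⁻¹ * (t' * u1 * t'⁻¹) = m * t * m⁻¹ * t'⁻¹ := by
      rw [inv_mul_eq_iff_eq_mul, ← mul_assoc, ← eb, mul_inv_cancel_right]
    rw [this]
    exact mul_mem hd (inv_mem htd')
  rw [Subgroup.mem_bot, inv_mul_eq_one] at h3
  rw [← h3, mul_left_cancel_iff] at eb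
  refine ⟨u1, hu1, m, hmN, w, hw, u, hupos, hmm, by rw [hmdef]; group, ?_, ?_, ?_⟩
  · conv_rhs => rw [h3, inv_mul_cancel_right]
  · calc t * u = t * (t⁻¹ * u * t) := congrArg (t * ·) eu
      _ = u * t := by group
  · refine (mono_rel hT hmN hmm f g).1 ?_
    show m * t = t' * m
    rw [eb, inv_mul_cancel_right]

omit hC in
/-- Logarithm of the fundamental values. -/
theorem powMat_surjective [Fintype K] (hinj : Function.Injective (torusHom T K))
    (c : Fin T.rank → Kˣ) : ∃ f : Fin T.rank → Kˣ, ∀ j : Fin T.rank, tCh T f (T.simple j.val) = c j := by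
  classical
  have h1 : Function.Injective (powMat T.rank fun i j => T.ca i (T.simple j) :
      (Fin T.rank → Kˣ) →* _) := by
    rw [← MonoidHom.ker_eq_bot_iff, ← torusHom_ker hT, MonoidHom.ker_eq_bot_iff]
    exact hinj
  obtain ⟨f, hf⟩ := Finite.surjective_of_injective h1 c
  exact ⟨f, fun j => congrFun hf j⟩

/-- The torus elements twisted to their `q`-th powers. -/
def twisted (T : Tbl) (K : Type*) [Field K] (v : Equiv.Perm (Fin T.n)) (q : ℕ) :
    Subgroup (Fin T.rank → Kˣ) where
  carrier := {f | ∀ s : Fin T.n, tCh T f (v s).val = tCh T f s.val ^ q}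
  one_mem' := fun s => by simp [tCh]
  mul_mem' := fun {a b} ha hb s => by
    have e : ∀ r, tCh T (a * b) r = tCh T a r * tCh T b r := fun r => by
      simp [tCh, mul_zpow, Finset.prod_mul_distrib]
    rw [e, e, ha, hb, mul_pow]
  inv_mem' := fun {a} ha s => by
    have e : ∀ r, tCh T a⁻¹ r = (tCh T a r)⁻¹ := fun r => by
      simp [tCh, Finset.prod_inv_distrib]
    rw [e, e, ha, inv_pow]

omit hC in
theorem twisted_cyclic [Fintype K] (hinj : Function.Injective (torusHom T K))
    {v : Equiv.Perm (Fin T.n)} (hv : v ∈ T.WP hT) {e q P : ℕ}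
    (hc : (mat T hT v).charpoly = Polynomial.cyclotomic e ℤ)
    (hP : ((Polynomial.cyclotomic e ℤ).eval (q : ℤ)) = (P : ℤ))
    (hP0 : P ≠ 0) (hPE : P ∣ Nat.card Kˣ) (hsq : ∀ p : ℕ, p.Prime → p ^ 2 ∣ P → ¬ p ∣ e) :
    IsCyclic (twisted T K v q) ∧ Nat.card (twisted T K v q) = P := by
  set E := Nat.card Kˣ with hE
  let ψ : Kˣ ≃* Multiplicative (ZMod E) :=
    (zmodCyclicMulEquiv (G := Kˣ) inferInstance).symm
  let L : Kˣ → ZMod E := fun c => Multiplicative.toAdd (ψ c)
  have hLmul : ∀ a b, L (a * b) = L a + L b := fun a b => by simp [L]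
  have hLz : ∀ a (k : ℤ), L (a ^ k) = (k : ZMod E) * L a := fun a k => by
    simp [L, map_zpow, toAdd_zpow, zsmul_eq_mul]
  have hLinj : Function.Injective L := fun a b h => ψ.injective (Multiplicative.toAdd.injective h)
  have hLprod : ∀ (t : Finset (Fin T.rank)) (f : Fin T.rank → Kˣ), L (∏ j ∈ t, f j) = ∑ j ∈ t, L (f j) := by
    intro t f
    simp [L, map_prod, toAdd_prod]
  set M := mat T hT v
  let y : (Fin T.rank → Kˣ) → (Fin T.rank → ZMod E) := fun f j => L (tCh T f (T.simple j.val))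
  have hroot : ∀ f (s : Fin T.n),
      L (tCh T f s.val) = y f ⬝ᵥ fun j : Fin T.rank => ((T.co s.val j.val : ℤ) : ZMod E) := fun f s => by
    rw [tCh_linear hT f s, hLprod]
    exact Finset.sum_congr rfl fun j _ => by rw [hLz, mul_comm]
  set B := M - (q : ℤ) • (1 : Matrix (Fin T.rank) (Fin T.rank) ℤ)
  have hB : ∀ z : Fin T.rank → ZMod E, z ∈ sol E B ↔
      z ᵥ* M.map (Int.castRingHom (ZMod E)) = (q : ZMod E) • z := by
    intro z
    have e1 : B.map (Int.castRingHom (ZMod E)) =
        M.map (Int.castRingHom (ZMod E)) - (q : ZMod E) • 1 := by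
      ext i j
      simp only [B, Matrix.map_apply, Matrix.sub_apply, Matrix.smul_apply, smul_eq_mul, map_sub, map_mul, map_natCast]
      by_cases hij : i = j <;> simp [Matrix.one_apply, hij]
    rw [mem_sol, e1, Matrix.vecMul_sub, Matrix.vecMul_smul, Matrix.vecMul_one, sub_eq_zero]
  have hmem : ∀ f, f ∈ twisted T K v q ↔ y f ∈ sol E B := by
    intro f
    rw [hB]
    constructor
    · intro hf
      funext k
      have h1 := congrArg L (hf (T.simpF hT k))
      rw [← zpow_natCast, hLz, hroot f (v _), Int.cast_natCast] at h1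
      exact h1
    · intro hz s
      refine hLinj ?_
      rw [← zpow_natCast, hLz, hroot f (v s), hroot f s, Int.cast_natCast]
      have e2 : (fun j : Fin T.rank => ((T.co (v s).val j.val : ℤ) : ZMod E)) =
          M.map (Int.castRingHom (ZMod E)) *ᵥ fun j : Fin T.rank => ((T.co s.val j.val : ℤ) : ZMod E) := by
        funext j
        have := congrFun (mat_mulVec hT hv s) j
        rw [← this]
        exact RingHom.map_mulVec (Int.castRingHom (ZMod E)) _ _ j
      rw [e2, Matrix.dotProduct_mulVec, hz, smul_dotProduct]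
      rfl
  have hadd : ∀ f g, y (f * g) = y f + y g := fun f g => funext fun j => by
    show L (tCh T (f * g) _) = _
    rw [show tCh T (f * g) (T.simple j.val) = tCh T f (T.simple j.val) * tCh T g (T.simple j.val) by
      simp [tCh, mul_zpow, Finset.prod_mul_distrib], hLmul]
    rfl
  let Φ : twisted T K v q →* Multiplicative (sol E B) :=
    MonoidHom.mk' (fun f => Multiplicative.ofAdd ⟨y f, (hmem f).1 f.2⟩) fun f g =>
      Multiplicative.toAdd.injective (Subtype.ext (hadd f g))
  have hΦ : Function.Bijective Φ := by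
    constructor
    · intro f g h
      have h1 : y f = y g := congrArg (fun z : Multiplicative (sol E B) => (Multiplicative.toAdd z).1) h
      refine Subtype.ext (hinj (torus_congr hT fun s => hLinj ?_))
      rw [hroot, hroot, h1]
    · intro z
      obtain ⟨f, hf⟩ := powMat_surjective hT hinj fun j =>
        ψ.symm (Multiplicative.ofAdd ((Multiplicative.toAdd z).1 j))
      have hy : y f = (Multiplicative.toAdd z).1 := funext fun j => by
        show L (tCh T f (T.simple j.val)) = _
        rw [hf j]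
        simp [L]
      exact ⟨⟨f, (hmem f).2 (hy ▸ (Multiplicative.toAdd z).2)⟩,
        Multiplicative.toAdd.injective (Subtype.ext hy)⟩
  obtain ⟨h1, h2⟩ := sol_cyclic (E := E) M hc hP hP0 Nat.card_pos.ne' hPE hsq
  let Ψ := MulEquiv.ofBijective Φ hΦ
  refine ⟨Ψ.isCyclic.2 inferInstance, ?_⟩
  rw [Nat.card_congr Ψ.toEquiv, Nat.card_congr Multiplicative.toAdd, h2]

end CfsgLib.Chevalley.CoxeterTorus

namespace CfsgLib.Chevalley.CoxeterTorus

open Tbl
open scoped Matrix
open CfsgLib.KnownB.FieldAut (mapGL mapGL_inj map_torus map_group map_rootGen fixed_mem)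

variable {T : Tbl} (hT : T.Valid) (hC : T.chkComm = true)
include hT hC

omit hT hC in
theorem tCh_pow {K : Type*} [Field K] (f : Fin T.rank → Kˣ) (q r : ℕ) :
    tCh T (f ^ q) r = tCh T f r ^ q := by
  rw [tCh, tCh, ← Finset.prod_pow]
  refine Finset.prod_congr rfl fun i _ => ?_
  rw [Pi.pow_apply, ← zpow_natCast, ← zpow_natCast, ← _root_.zpow_mul, mul_comm, _root_.zpow_mul]

theorem card_flag_dvd {K : Type*} [Field K] [Fintype K] {ℓ : ℕ} [hℓ : Fact ℓ.Prime]
    (h1 : ℓ ∣ Fintype.card K - 1) (hW : ℓ.Coprime (Nat.card (T.WP hT))) :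
    (Nat.card (T.datum.group K)).factorization ℓ =
      (Nat.card (T.datum.diagonalSubgroup K)).factorization ℓ := by
  classical
  have hQ : (Fintype.card K : ZMod ℓ) = 1 := by
    obtain ⟨k, hk⟩ := h1
    have hK : 1 < Fintype.card K := Fintype.one_lt_card
    rw [show Fintype.card K = ℓ * k + 1 by omega]
    simp
  rw [card_group hT hC]
  have hnd1 : ¬ ℓ ∣ Fintype.card K ^ T.half := by
    intro h
    rw [← ZMod.natCast_eq_zero_iff, Nat.cast_pow, hQ, one_pow] at h
    exact one_ne_zero h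
  have hnd2 : ¬ ℓ ∣ ∑ w : ↥(T.WP hT), Fintype.card K ^ T.invN (w : Equiv.Perm (Fin T.n)) := by
    intro h
    rw [← ZMod.natCast_eq_zero_iff, Nat.cast_sum] at h
    simp only [Nat.cast_pow, hQ, one_pow, Finset.sum_const, Finset.card_univ, nsmul_eq_mul, mul_one] at h
    rw [ZMod.natCast_eq_zero_iff, ← Nat.card_eq_fintype_card] at h
    exact hℓ.out.ne_one (Nat.eq_one_of_dvd_coprimes hW dvd_rfl h)
  have hH : Nat.card (T.datum.diagonalSubgroup K) ≠ 0 := Nat.card_pos.ne'
  rw [Nat.factorization_mul (Nat.mul_ne_zero (pow_ne_zero _ Fintype.card_ne_zero) hH)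
      (fun h => hnd2 (by rw [h]; exact dvd_zero _)), Nat.factorization_mul (pow_ne_zero _ Fintype.card_ne_zero) hH,
    Finsupp.add_apply, Finsupp.add_apply, Nat.factorization_eq_zero_of_not_dvd hnd1,
    Nat.factorization_eq_zero_of_not_dvd hnd2, zero_add, add_zero]

set_option maxHeartbeats 1000000 in
/-- The centraliser of an element of order `ℓ` is cyclic of order `Φ_e(q)` and self-centralising. -/
theorem exists_torus (hinj : ∀ (L : Type) [Field L] [Fintype L], Function.Injective (torusHom T L))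
    {F : Type*} [Field F] [Fintype F] {q e P ℓ : ℕ} (hF : Fintype.card F = q) (he : 0 < e)
    (hr : e.totient = T.rank) (hP : (Polynomial.cyclotomic e ℤ).eval (q : ℤ) = (P : ℤ))
    (hℓ : ℓ.Prime) (hℓP : ℓ ∣ P) (hℓe : ¬ ℓ ∣ e) (hℓW : ℓ.Coprime (Nat.card (T.WP hT)))
    (hℓG : ℓ ∣ Nat.card ↥(T.datum.group F)) (hsq : ∀ p : ℕ, p.Prime → p ^ 2 ∣ P → ¬ p ∣ e) :
    ∃ H : Subgroup ↥(T.datum.group F), IsCyclic ↥H ∧ Nat.card ↥H = P ∧
      Subgroup.centralizer (H : Set ↥(T.datum.group F)) = H := by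
  classical
  have : Fact ℓ.Prime := ⟨hℓ⟩
  have : NeZero e := ⟨he.ne'⟩
  have : NeZero (e : ZMod ℓ) := ⟨fun h => hℓe ((ZMod.natCast_eq_zero_iff e ℓ).1 h)⟩
  have hq2 : 1 < q := hF ▸ Fintype.one_lt_card
  -- `q` has order `e` modulo `ℓ`
  have hroot : IsPrimitiveRoot (q : ZMod ℓ) e := by
    refine Polynomial.isRoot_cyclotomic_iff.1 ?_
    rw [Polynomial.IsRoot, ← Polynomial.map_cyclotomic e (Int.castRingHom (ZMod ℓ)),
      ← map_natCast (Int.castRingHom (ZMod ℓ)) q, Polynomial.eval_map, Polynomial.eval₂_hom, hP]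
    simpa using (ZMod.natCast_eq_zero_iff P ℓ).2 hℓP
  have hP0 : P ≠ 0 := by
    rintro rfl
    exact (Polynomial.cyclotomic_pos_and_nonneg e (q : ℤ)).1 (by exact_mod_cast hq2) |>.ne' (by simpa using hP)
  -- the extension field
  obtain ⟨p, hchar⟩ := CharP.exists F
  obtain ⟨d, hp, hd⟩ := FiniteField.card F p
  have : Fact p.Prime := ⟨hp⟩
  let K := FiniteField.Extension F p e
  letI : Fintype K := Fintype.ofFinite K
  let ι : F →+* K := algebraMap F K
  have : CharP K p := charP_of_injective_algebraMap ι.injective p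
  have hK : Fintype.card K = q ^ e := by
    rw [← Nat.card_eq_fintype_card, FiniteField.natCard_extension, Nat.card_eq_fintype_card, hF]
  let σ : K →+* K := iterateFrobenius K p d
  have hσ : ∀ x : K, σ x = x ^ q := fun x => by
    rw [iterateFrobenius_def, ← hd, hF]
  have hfix : ∀ x : K, σ x = x ↔ x ∈ Set.range ι := by
    intro x
    rw [hσ]
    refine ⟨fun hx => ?_, ?_⟩
    · by_contra hxr
      let Q : Polynomial K := Polynomial.X ^ q - Polynomial.X
      have hQ : Q ≠ 0 := FiniteField.X_pow_card_sub_X_ne_zero K hq2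
      have hsub : insert x (Finset.univ.image ι) ⊆ Q.roots.toFinset := by
        intro y hy
        rw [Multiset.mem_toFinset, Polynomial.mem_roots hQ]
        rw [Finset.mem_insert, Finset.mem_image] at hy
        simp only [Q, Polynomial.IsRoot, Polynomial.eval_sub, Polynomial.eval_pow, Polynomial.eval_X,
          sub_eq_zero]
        rcases hy with rfl | ⟨z, -, rfl⟩
        · exact hx
        · rw [← map_pow, ← hF, FiniteField.pow_card]
      have h1 := (Finset.card_le_card hsub).trans (Multiset.toFinset_card_le _)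
      have h2 := Polynomial.card_roots' Q
      rw [Finset.card_insert_of_notMem (by simpa using fun z => fun h => hxr ⟨z, h⟩),
        Finset.card_image_of_injective _ ι.injective, Finset.card_univ, hF] at h1
      rw [show Q.natDegree = q from FiniteField.X_pow_card_sub_X_natDegree_eq K hq2] at h2
      omega
    · rintro ⟨z, rfl⟩
      rw [← map_pow, ← hF, FiniteField.pow_card]
  have hPE : P ∣ Nat.card Kˣ := by
    have h1 := (Polynomial.cyclotomic.dvd_X_pow_sub_one e ℤ)
    have h2 := Polynomial.eval_dvd (x := (q : ℤ)) h1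
    rw [hP] at h2
    simp only [Polynomial.eval_sub, Polynomial.eval_pow, Polynomial.eval_X, Polynomial.eval_one] at h2
    rw [Nat.card_units, Nat.card_eq_fintype_card, hK, ← Int.natCast_dvd_natCast,
      Nat.cast_sub (Nat.one_le_pow _ _ (by omega)), Nat.cast_pow]
    exact_mod_cast h2
  have hKinj := hinj K
  obtain ⟨ζ, hζ⟩ := exists_prime_orderOf_dvd_card' (G := Kˣ) ℓ (hℓP.trans hPE)
  have hmap : ∀ f : Fin T.rank → Kˣ, mapGL T σ (torusHom T K f) = torusHom T K f ^ q := by
    intro f
    rw [map_torus, ← map_pow]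
    exact congrArg _ (funext fun i => Units.ext (by simp [hσ]))
  have hσι : ∀ g : GL T.I F, mapGL T σ (mapGL T ι g) = mapGL T ι g := fun g =>
    Units.ext (Matrix.ext fun i j => (hfix _).2 ⟨(g : Matrix T.I T.I F) i j, rfl⟩)
  -- the element of order `ℓ` and its diagonal conjugate
  obtain ⟨s, hs⟩ := exists_prime_orderOf_dvd_card' (G := ↥(T.datum.group F)) ℓ hℓG
  have hsG : mapGL T ι (s : GL T.I F) ∈ T.datum.group K := map_group ι hT ⟨_, s.2, rfl⟩
  have hso : orderOf (⟨_, hsG⟩ : ↥(T.datum.group K)) = ℓ ^ 1 := by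
    rw [pow_one, ← Subgroup.orderOf_coe, orderOf_injective _ (mapGL_inj ι), Subgroup.orderOf_coe, hs]
  have hℓK : ℓ ∣ Fintype.card K - 1 := by
    rw [← Nat.card_eq_fintype_card, ← Nat.card_units]
    exact hℓP.trans hPE
  obtain ⟨x0, hx0⟩ := Twist.ToriGen.conj_into ((T.datum.diagonalSubgroup K).subgroupOf (T.datum.group K))
    (by rw [Nat.card_congr (Subgroup.subgroupOfEquivOfLe (diag_le_group hT)).toEquiv,
      card_flag_dvd hT hC hℓK hℓW]) hso
  set x : GL T.I K := (x0 : GL T.I K)
  have hxG : x ∈ T.datum.group K := x0.2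
  rw [Subgroup.mem_subgroupOf] at hx0
  obtain ⟨f0, hf0⟩ : ∃ f, torusHom T K f = x * mapGL T ι (s : GL T.I F) * x⁻¹ := by
    rw [← MonoidHom.mem_range, torusHom_range hT]
    exact hx0
  have hf0ℓ : f0 ^ ℓ = 1 := by
    refine hKinj ?_
    rw [map_pow, hf0, _root_.conj_pow, ← map_pow, ← hs, ← Subgroup.coe_pow, pow_orderOf_eq_one]
    simp
  -- logarithms
  have hlog : ∀ j : Fin T.rank, ∃ k : ℤ, ζ ^ k = tCh T f0 (T.simple j.val) := by
    intro j
    have h1 : IsPrimitiveRoot ζ ℓ := hζ ▸ IsPrimitiveRoot.orderOf ζ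
    refine Subgroup.mem_zpowers_iff.1 ?_
    rw [h1.zpowers_eq, mem_rootsOfUnity, tCh, ← Finset.prod_pow]
    refine Finset.prod_eq_one fun i _ => ?_
    rw [← zpow_natCast, ← _root_.zpow_mul, mul_comm, _root_.zpow_mul, zpow_natCast,
      show f0 i ^ ℓ = 1 from congrFun hf0ℓ i, _root_.one_zpow]
  choose a ha using hlog
  have hval : ∀ r : Fin T.n, tCh T f0 r.val = ζ ^ val T a r.val := by
    intro r
    rw [tCh_linear hT, val, dotProduct, zpow_sum_eq]
    exact Finset.prod_congr rfl fun j _ => by rw [_root_.zpow_mul, ha]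
  have hnz : ∃ r : Fin T.n, ζ ^ val T a r.val ≠ 1 := by
    by_contra hall
    push Not at hall
    have h1 : torusHom T K f0 = 1 := by
      rw [show (1 : GL T.I K) = torusHom T K 1 from (map_one _).symm]
      exact torus_congr hT fun r => by rw [hval, hall]; simp [tCh]
    rw [hf0, conj_eq_one_iff] at h1
    have h2 : s = 1 := Subtype.ext (mapGL_inj ι (by rw [h1, Subgroup.coe_one, map_one]))
    rw [h2, orderOf_one] at hs
    exact hℓ.ne_one hs.symm
  -- the action of the Frobenius map
  set y := mapGL T σ x * x⁻¹ with hy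
  have hyG : y ∈ T.datum.group K := mul_mem (map_group σ hT ⟨x, hxG, rfl⟩) (inv_mem hxG)
  have hrel0 : torusHom T K (f0 ^ q) * y = y * torusHom T K f0 := by
    rw [map_pow, ← hmap, hf0, map_mul, map_mul, map_inv, hσι, hy]
    group
  obtain ⟨u1, hu1, m, hmN, w, hw, u, hu, hmm, hye, hcu1, hcu, hwrel⟩ := decompose hT hC hyG hrel0
  set v := w⁻¹ with hvdef
  have hv : v ∈ T.WP hT := inv_mem hw
  have hvrel : ∀ r : Fin T.n, ζ ^ val T a (v r).val = (ζ ^ val T a r.val) ^ q := by
    intro r
    have h1 := hwrel (v r)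
    rw [hvdef, ← Equiv.Perm.mul_apply, mul_inv_cancel, Equiv.Perm.one_apply] at h1
    rw [← hval, ← hval, ← h1]
    exact tCh_pow f0 q _
  set M := mat T hT v with hM
  have hN : M ^ orderOf v = 1 := by rw [hM, ← mat_pow hT hv, pow_orderOf_eq_one, mat_one]
  have hℓN : ¬ ℓ ∣ orderOf v := fun h => hℓ.ne_one (Nat.eq_one_of_dvd_coprimes hℓW dvd_rfl
    (h.trans (Subgroup.orderOf_dvd_natCard _ hv)))
  have heig : (fun j => (a j : ZMod ℓ)) ᵥ* M.map (Int.castRingHom (ZMod ℓ)) =
      (q : ZMod ℓ) • fun j => (a j : ZMod ℓ) := by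
    rw [cast_vecMul]
    funext k
    have h1 := hvrel (T.simpF hT k)
    rw [← zpow_natCast, ← _root_.zpow_mul, val_perm hT hv, show (T.simpF hT k).val = T.simple k.val from rfl,
      val_simple hT, val_simple hT, zpow_eq_zpow_iff_modEq, hζ, ← ZMod.intCast_eq_intCast_iff] at h1
    rw [Pi.smul_apply, smul_eq_mul, h1]
    push_cast
    ring
  have ha0 : (fun j => (a j : ZMod ℓ)) ≠ 0 := by
    obtain ⟨r, hr⟩ := hnz
    intro h0
    refine hr ?_
    rw [val, dotProduct, zpow_sum_eq]
    refine Finset.prod_eq_one fun j _ => ?_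
    obtain ⟨k, hk⟩ := (ZMod.intCast_zmod_eq_zero_iff_dvd _ _).1 (congrFun h0 j)
    rw [hk, mul_assoc, _root_.zpow_mul, zpow_natCast, ← hζ, pow_orderOf_eq_one, _root_.one_zpow]
  obtain ⟨hchp, hirr⟩ := cyclotomic_of_eigen M he hr hN (orderOf_pos v) hℓN hroot ha0 heig
  have hreg : ∀ r : Fin T.n, ζ ^ val T a r.val ≠ 1 := regular hT hζ hℓW a hv hnz hvrel hirr
  have hreg0 : ∀ r : Fin T.n, tCh T f0 r.val ≠ 1 := fun r => by rw [hval]; exact hreg r
  have hregq : ∀ r : Fin T.n, tCh T (f0 ^ q) r.val ≠ 1 := by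
    intro r
    have h1 : tCh T (f0 ^ q) r.val = tCh T f0 r.val ^ q := tCh_pow f0 q _
    rw [h1, hval, ← hvrel]
    exact hreg _
  have hym : y = m := by
    rw [hye, unip_trivial hT hC hregq hu1 hcu1, unip_trivial hT hC hreg0 hu hcu, one_mul, mul_one]
  -- the centraliser over the extension
  have hcent : ∀ c ∈ T.datum.group K, torusHom T K f0 * c = c * torusHom T K f0 →
      ∃ f, torusHom T K f = c := by
    intro c hc h
    obtain ⟨u1', hu1', m', hm'N, w', hw', u', hu', hmm', hce, hc1, hc2, hrel'⟩ := decompose hT hC hc h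
    rw [unip_trivial hT hC hreg0 hu1' hc1, unip_trivial hT hC hreg0 hu' hc2, one_mul, mul_one] at hce
    have hw1 : w' = 1 := stab_trivial hT hζ hℓW a hreg hw' fun r => by rw [← hval, ← hval, hrel']
    subst hw1
    rw [← MonoidHom.mem_range, torusHom_range hT, hce]
    exact mem_diag_of_mono_one hT hm'N hmm'
  -- fixed torus elements
  have htw : ∀ f : Fin T.rank → Kˣ, f ∈ twisted T K v q ↔
      y * torusHom T K f = torusHom T K f ^ q * y := by
    intro f
    have h1 : ∀ r : ℕ, tCh T (f ^ q) r = tCh T f r ^ q := tCh_pow f q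
    rw [← map_pow, hym, mono_rel hT hmN hmm]
    simp only [h1]
    refine ⟨fun hf r => ?_, fun hf r => ?_⟩
    · have h2 := hf (w r)
      rw [hvdef, ← Equiv.Perm.mul_apply, inv_mul_cancel, Equiv.Perm.one_apply] at h2
      exact h2.symm
    · have h2 := hf (v r)
      rw [hvdef, ← Equiv.Perm.mul_apply, mul_inv_cancel, Equiv.Perm.one_apply] at h2
      exact h2.symm
  let C : Subgroup ↥(T.datum.group F) := Subgroup.centralizer {s}
  let Φ : C →* GL T.I K := (MulAut.conj x).toMonoidHom.comp
    ((mapGL T ι).comp ((T.datum.group F).subtype.comp C.subtype))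
  have hΦinj : Function.Injective Φ := (MulAut.conj x).injective.comp
    ((mapGL_inj ι).comp ((Subgroup.subtype_injective _).comp (Subgroup.subtype_injective _)))
  have hrange : Φ.range = (twisted T K v q).map (torusHom T K) := by
    ext c
    simp only [MonoidHom.mem_range, Subgroup.mem_map]
    constructor
    · rintro ⟨g, rfl⟩
      show ∃ f ∈ twisted T K v q, torusHom T K f = x * mapGL T ι ((g : ↥(T.datum.group F)) : GL T.I F) * x⁻¹
      have hgs : mapGL T ι ((g : ↥(T.datum.group F)) : GL T.I F) * mapGL T ι (s : GL T.I F) =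
          mapGL T ι (s : GL T.I F) * mapGL T ι ((g : ↥(T.datum.group F)) : GL T.I F) := by
        rw [← map_mul, ← map_mul, ← Subgroup.coe_mul, ← Subgroup.coe_mul,
          Subgroup.mem_centralizer_singleton_iff.1 g.2]
      obtain ⟨f, hf⟩ := hcent (x * mapGL T ι ((g : ↥(T.datum.group F)) : GL T.I F) * x⁻¹)
        (mul_mem (mul_mem hxG (map_group ι hT ⟨_, (g : ↥(T.datum.group F)).2, rfl⟩)) (inv_mem hxG)) (by
          rw [hf0]
          calc _ = x * (mapGL T ι (s : GL T.I F) * mapGL T ι ((g : ↥(T.datum.group F)) : GL T.I F)) * x⁻¹ := by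
                group
            _ = x * (mapGL T ι ((g : ↥(T.datum.group F)) : GL T.I F) * mapGL T ι (s : GL T.I F)) * x⁻¹ := by
                rw [hgs]
            _ = _ := by group)
      refine ⟨f, (htw f).2 ?_, hf⟩
      rw [← hmap, hf, map_mul, map_mul, map_inv, hσι, hy]
      group
    · rintro ⟨f, hf, rfl⟩
      set z := x⁻¹ * torusHom T K f * x with hz
      have hzG : z ∈ T.datum.group K := mul_mem (mul_mem (inv_mem hxG)
        (diag_le_group hT (by rw [← torusHom_range hT]; exact ⟨f, rfl⟩))) hxG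
      have hzfix : mapGL T σ z = z := by
        have h1 := (htw f).1 hf
        rw [hy] at h1
        rw [hz, map_mul, map_mul, map_inv, hmap]
        calc (mapGL T σ x)⁻¹ * torusHom T K f ^ q * mapGL T σ x
            = (mapGL T σ x)⁻¹ * (torusHom T K f ^ q * (mapGL T σ x * x⁻¹)) * x := by group
          _ = x⁻¹ * torusHom T K f * x := by rw [← h1]; group
      obtain ⟨g, hg, hgz⟩ := fixed_mem hT hC σ ι hfix hKinj hzG hzfix
      refine ⟨⟨⟨g, hg⟩, Subgroup.mem_centralizer_singleton_iff.2 (Subtype.ext (mapGL_inj ι ?_))⟩, ?_⟩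
      · have h3 : mapGL T ι (s : GL T.I F) = x⁻¹ * torusHom T K f0 * x := by rw [hf0]; group
        simp only [Subgroup.coe_mul, map_mul, hgz, h3, hz]
        calc _ = x⁻¹ * (torusHom T K f * torusHom T K f0) * x := by group
          _ = x⁻¹ * (torusHom T K f0 * torusHom T K f) * x := by rw [← map_mul, mul_comm f, map_mul]
          _ = _ := by group
      · show x * mapGL T ι g * x⁻¹ = torusHom T K f
        rw [hgz, hz]
        group
  obtain ⟨hcyc, hcard⟩ := twisted_cyclic hT hKinj hv hchp hP hP0 hPE hsq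
  let eC : C ≃* twisted T K v q := ((MonoidHom.ofInjective hΦinj).trans
    (MulEquiv.subgroupCongr hrange)).trans ((twisted T K v q).equivMapOfInjective _ hKinj).symm
  have hCcyc : IsCyclic C := eC.isCyclic.2 hcyc
  refine ⟨C, hCcyc, by rw [Nat.card_congr eC.toEquiv, hcard], le_antisymm ?_ ?_⟩
  · exact Subgroup.centralizer_le (by
      rintro g rfl
      exact Subgroup.mem_centralizer_singleton_iff.2 rfl)
  · intro g hg
    refine Subgroup.mem_centralizer_iff.2 fun k hk => ?_
    letI := IsCyclic.commGroup (α := C)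
    exact congrArg Subtype.val (mul_comm (⟨k, hk⟩ : C) ⟨g, hg⟩)

end CfsgLib.Chevalley.CoxeterTorus
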