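import Cfsg.Agent.Lib.Chevalley.CoxeterTorus.Main
import Cfsg.Agent.Lib.Chevalley.Data.SmithCerts
import Cfsg.Agent.Lib.Chevalley.Data.Steps
import Cfsg.Agent.Lib.Chevalley.Tables
import Cfsg.Agent.Lib.Chevalley.Orders

/-!
The self-centralising cyclic tori of G₂ (`e = 3`), F₄ (`e = 8`) and E₈ (`e = 30`).
-/

set_option autoImplicit false

namespace CfsgLib.Chevalley.CoxeterTorus

open Polynomial

theorem dvd_pow_sub_one {e q P : ℕ} (hq : 1 ≤ q)
    (hP : (cyclotomic e ℤ).eval (q : ℤ) = (P : ℤ)) : P ∣ q ^ e - 1 := by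
  have h2 := Polynomial.eval_dvd (x := (q : ℤ)) (cyclotomic.dvd_X_pow_sub_one e ℤ)
  rw [hP] at h2
  simp only [eval_sub, eval_pow, eval_X, eval_one] at h2
  rw [← Int.natCast_dvd_natCast, Nat.cast_sub (Nat.one_le_pow _ _ (by omega)), Nat.cast_pow]
  exact_mod_cast h2

theorem exists_prime {e P : ℕ} (he : 0 < e) (hlt : e < P)
    (hsq : ∀ p : ℕ, p.Prime → p ^ 2 ∣ P → ¬ p ∣ e) : ∃ ℓ : ℕ, ℓ.Prime ∧ ℓ ∣ P ∧ ¬ ℓ ∣ e := by
  by_contra h
  push Not at h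
  have hdvd : P ∣ e := by
    refine (Nat.dvd_iff_prime_pow_dvd_dvd _ _).2 fun p k hp hk => ?_
    rcases Nat.lt_or_ge k 2 with hk2 | hk2
    · interval_cases k
      · simp
      · rw [pow_one] at hk ⊢
        exact h p hp hk
    · exact absurd (h p hp ((dvd_pow_self p (by omega)).trans hk)) (hsq p hp ((pow_dvd_pow p hk2).trans hk))
  exact absurd (Nat.le_of_dvd he hdvd) (by omega)

theorem lt_of_dvd_eval {e q P ℓ : ℕ} (hℓ : ℓ.Prime)
    (hP : (cyclotomic e ℤ).eval (q : ℤ) = (P : ℤ)) (hℓP : ℓ ∣ P) (hℓe : ¬ ℓ ∣ e) : e < ℓ := by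
  have : Fact ℓ.Prime := ⟨hℓ⟩
  have : NeZero (e : ZMod ℓ) := ⟨fun h => hℓe ((ZMod.natCast_eq_zero_iff e ℓ).1 h)⟩
  have he : e ≠ 0 := fun h => hℓe (h ▸ dvd_zero ℓ)
  have hroot : IsPrimitiveRoot (q : ZMod ℓ) e := by
    refine isRoot_cyclotomic_iff.1 ?_
    rw [IsRoot, ← map_cyclotomic e (Int.castRingHom (ZMod ℓ)),
      ← map_natCast (Int.castRingHom (ZMod ℓ)) q, eval_map, eval₂_hom, hP]
    simpa using (ZMod.natCast_eq_zero_iff P ℓ).2 hℓP
  have h1 := hroot.dvd_of_pow_eq_one _ (ZMod.pow_card_sub_one_eq_one (hroot.ne_zero he))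
  have := Nat.le_of_dvd (by have := hℓ.two_le; omega) h1
  have := hℓ.two_le
  omega

/-- No square of a prime divisor of `e` divides `P`, from residues. -/
theorem not_sq_dvd {q P : ℕ} (f : ∀ n : ℕ, ZMod n → ZMod n) (hf : ∀ n, (P : ZMod n) = f n (q : ZMod n))
    (p : ℕ) (h : ∀ x : ZMod (p ^ 2), f _ x ≠ 0) : ¬ p ^ 2 ∣ P := fun hd =>
  h _ ((hf _).symm.trans ((ZMod.natCast_eq_zero_iff _ _).2 hd))

/-- The common wrapper. -/
theorem instanceTorus {T : Tbl} (hT : T.Valid) (hC : T.chkComm = true)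
    {U U' V V' : List (List ℤ)} {d : List ℕ} (hsm : T.chkSmith U U' V V' d = true)
    (hd : ∀ i : Fin T.rank, d.getD i.val 0 = 1)
    {D : Cfsg.Lie.ChevalleyDatum} (hD : T.datum = D) {F : Type*} [Field F] [Fintype F] {q e P W : ℕ}
    (hF : Fintype.card F = q) (he : 0 < e) (hr : e.totient = T.rank)
    (hP : (cyclotomic e ℤ).eval (q : ℤ) = (P : ℤ)) (hlt : e < P)
    (hsq : ∀ p : ℕ, p.Prime → p ^ 2 ∣ P → ¬ p ∣ e)
    (hW : Nat.card (T.WP hT) = W) (hWp : ∀ ℓ : ℕ, ℓ.Prime → ℓ ∣ W → ℓ ≤ e)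
    (hG : q ^ e - 1 ∣ Nat.card ↥(D.group F)) :
    ∃ H : Subgroup ↥(D.group F), IsCyclic ↥H ∧ Nat.card ↥H = P ∧
      Subgroup.centralizer (H : Set ↥(D.group F)) = H := by
  subst hD
  obtain ⟨ℓ, hℓ, hℓP, hℓe⟩ := exists_prime he hlt hsq
  have hlte := lt_of_dvd_eval hℓ hP hℓP hℓe
  refine exists_torus hT hC (fun L _ _ => ?_) hF he hr hP hℓ hℓP hℓe ?_ ?_ hsq
  · exact CfsgLib.KnownB.FieldAut.torusHom_injective hT L hsm fun i => by rw [hd, Nat.gcd_one_right]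
  · rw [hW]
    exact hℓ.coprime_iff_not_dvd.2 fun h => absurd (hWp ℓ hℓ h) (by omega)
  · have hq : 1 ≤ q := hF ▸ Fintype.card_pos
    exact (hℓP.trans (dvd_pow_sub_one hq hP)).trans hG

theorem eval_three (x : ℤ) : (cyclotomic 3 ℤ).eval x = x ^ 2 + x + 1 := by
  simp [cyclotomic_three]

theorem eval_eight (x : ℤ) : (cyclotomic 8 ℤ).eval x = x ^ 4 + 1 := by
  have : Fact (Nat.Prime 2) := ⟨Nat.prime_two⟩
  rw [show (8 : ℕ) = 2 ^ (2 + 1) from rfl, cyclotomic_prime_pow_eq_geom_sum Nat.prime_two]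
  simp [Finset.sum_range_succ]
  ring

theorem eval_fifteen (x : ℤ) :
    (cyclotomic 15 ℤ).eval x = x ^ 8 - x ^ 7 + x ^ 5 - x ^ 4 + x ^ 3 - x + 1 := by
  have h := congrArg (Polynomial.eval x)
    (cyclotomic_expand_eq_cyclotomic_mul (p := 5) (n := 3) Nat.prime_five (by norm_num) ℤ)
  rw [expand_eval, eval_mul, eval_three, eval_three] at h
  refine mul_right_cancel₀ (show x ^ 2 + x + 1 ≠ 0 by nlinarith [sq_nonneg (2 * x + 1)]) ?_
  rw [show (3 * 5 : ℕ) = 15 from rfl] at h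
  rw [← h]
  ring

theorem eval_thirty {x : ℤ} (hx : 1 < x) :
    (cyclotomic 30 ℤ).eval x = x ^ 8 + x ^ 7 - x ^ 5 - x ^ 4 - x ^ 3 + x + 1 := by
  have h := congrArg (Polynomial.eval x)
    (cyclotomic_expand_eq_cyclotomic_mul (p := 2) (n := 15) Nat.prime_two (by norm_num) ℤ)
  rw [expand_eval, eval_mul, eval_fifteen, show (15 * 2 : ℕ) = 30 from rfl] at h
  have h15 := (cyclotomic_pos_and_nonneg 15 x).1 hx
  refine mul_right_cancel₀ h15.ne' ?_
  rw [← h, eval_fifteen]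
  ring

theorem G2_card_WP : Nat.card (Data.G2.tbl.WP Data.G2.valid) = 12 :=
  Int.natCast_inj.mp ((Tbl.card_WP Data.G2.valid Data.G2.steps_length Data.G2.chkSteps).trans (by decide +kernel))

theorem F4_card_WP : Nat.card (Data.F4.tbl.WP Data.F4.valid) = 1152 :=
  Int.natCast_inj.mp ((Tbl.card_WP Data.F4.valid Data.F4.steps_length Data.F4.chkSteps).trans (by decide +kernel))

theorem E8_card_WP : Nat.card (Data.E8.tbl.WP Data.E8.valid) = 696729600 :=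
  Int.natCast_inj.mp ((Tbl.card_WP Data.E8.valid Data.E8.steps_length Data.E8.chkSteps).trans (by decide +kernel))

end CfsgLib.Chevalley.CoxeterTorus
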