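import Mathlib

/-!
An integer matrix of finite order with an eigenvalue of order `e` modulo a prime, in dimension
`φ(e)`: its characteristic polynomial is the cyclotomic one and the kernel of `M - q` modulo
a multiple of `Φ_e(q)` is cyclic of order `Φ_e(q)`.
-/

set_option autoImplicit false

namespace CfsgLib.Chevalley.CoxeterTorus

open Polynomial Matrix

/-- The solutions of `y B = 0` modulo `E`. -/
def sol {r : ℕ} (E : ℕ) (B : Matrix (Fin r) (Fin r) ℤ) : AddSubgroup (Fin r → ZMod E) where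
  carrier := {y | y ᵥ* B.map (Int.castRingHom (ZMod E)) = 0}
  zero_mem' := Matrix.zero_vecMul _
  add_mem' := fun {a b} ha hb => by
    show (a + b) ᵥ* _ = 0
    rw [Matrix.add_vecMul, ha, hb, add_zero]
  neg_mem' := fun {a} ha => by
    show (-a) ᵥ* _ = 0
    rw [Matrix.neg_vecMul, ha, neg_zero]

theorem mem_sol {r E : ℕ} {B : Matrix (Fin r) (Fin r) ℤ} {y : Fin r → ZMod E} :
    y ∈ sol E B ↔ y ᵥ* B.map (Int.castRingHom (ZMod E)) = 0 := Iff.rfl

theorem cast_vecMul {r : ℕ} (E : ℕ) (z : Fin r → ℤ) (B : Matrix (Fin r) (Fin r) ℤ) :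
    (fun i => ((z i : ℤ) : ZMod E)) ᵥ* B.map (Int.castRingHom (ZMod E)) =
      fun i => (((z ᵥ* B) i : ℤ) : ZMod E) := by
  funext k
  simp [Matrix.vecMul, dotProduct]

/-- The kernel of an integer matrix modulo a multiple of its determinant. -/
theorem card_sol {r E : ℕ} (B : Matrix (Fin r) (Fin r) ℤ) (hE : E ≠ 0)
    (hD : B.det ≠ 0) (hdvd : B.det ∣ (E : ℤ)) : Nat.card (sol E B) = B.det.natAbs := by
  obtain ⟨R, hR⟩ := hdvd
  have hR0 : R ≠ 0 := by
    rintro rfl
    exact hE (by exact_mod_cast (hR.trans (mul_zero _) : (E : ℤ) = 0))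
  let φ : (Fin r → ℤ) →+ sol E B :=
    { toFun := fun z => ⟨fun i => ((R * (z ᵥ* B.adjugate) i : ℤ) : ZMod E), by
        rw [mem_sol, cast_vecMul]
        funext k
        have h1 : ((fun i => R * (z ᵥ* B.adjugate) i) ᵥ* B) k = (E : ℤ) * z k := by
          rw [show (fun i => R * (z ᵥ* B.adjugate) i) = R • (z ᵥ* B.adjugate) from rfl,
            Matrix.smul_vecMul, Matrix.vecMul_vecMul, Matrix.adjugate_mul, Matrix.vecMul_smul,
            Matrix.vecMul_one, hR]
          simp only [Pi.smul_apply, smul_eq_mul]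
          ring
        rw [h1]
        simp⟩
      map_zero' := Subtype.ext (funext fun i => by simp)
      map_add' := fun a b => Subtype.ext (funext fun i => by
        show ((R * ((a + b) ᵥ* B.adjugate) i : ℤ) : ZMod E) = _
        rw [Matrix.add_vecMul, Pi.add_apply, mul_add, Int.cast_add]
        rfl) }
  have hsurj : Function.Surjective φ := by
    rintro ⟨y, hy⟩
    let Y : Fin r → ℤ := fun i => (ZMod.cast (y i) : ℤ)
    have hY : (fun i => ((Y i : ℤ) : ZMod E)) = y := funext fun i => ZMod.intCast_zmod_cast _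
    rw [mem_sol, ← hY, cast_vecMul] at hy
    have hz : ∀ k, ∃ z : ℤ, (Y ᵥ* B) k = (E : ℤ) * z := fun k => by
      obtain ⟨z, hz⟩ := (ZMod.intCast_zmod_eq_zero_iff_dvd _ _).1 (congrFun hy k)
      exact ⟨z, hz⟩
    choose z hz using hz
    refine ⟨z, Subtype.ext (funext fun i => ?_)⟩
    show ((R * (z ᵥ* B.adjugate) i : ℤ) : ZMod E) = y i
    have h1 : (Y ᵥ* B) ᵥ* B.adjugate = B.det • Y := by
      rw [Matrix.vecMul_vecMul, Matrix.mul_adjugate, Matrix.vecMul_smul, Matrix.vecMul_one]
    rw [show Y ᵥ* B = (E : ℤ) • z from funext hz, Matrix.smul_vecMul] at h1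
    have h2 := congrFun h1 i
    simp only [Pi.smul_apply, smul_eq_mul, hR, mul_assoc] at h2
    rw [mul_left_cancel₀ hD h2]
    exact congrFun hY i
  have hker : φ.ker = (Matrix.toLin' Bᵀ).toAddMonoidHom.range := by
    ext z
    simp only [AddMonoidHom.mem_ker, AddMonoidHom.mem_range, LinearMap.toAddMonoidHom_coe,
      Matrix.toLin'_apply, Matrix.mulVec_transpose]
    constructor
    · intro h
      have h' : ∀ i, ((R * (z ᵥ* B.adjugate) i : ℤ) : ZMod E) = 0 := fun i =>
        congrFun (congrArg Subtype.val h) i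
      have hw : ∀ i, ∃ w : ℤ, (z ᵥ* B.adjugate) i = B.det * w := fun i => by
        obtain ⟨w, hw⟩ := (ZMod.intCast_zmod_eq_zero_iff_dvd _ _).1 (h' i)
        exact ⟨w, mul_left_cancel₀ hR0 (by rw [hw, hR]; ring)⟩
      choose w hw using hw
      refine ⟨w, funext fun k => mul_left_cancel₀ hD ?_⟩
      have h1 : (z ᵥ* B.adjugate) ᵥ* B = B.det • z := by
        rw [Matrix.vecMul_vecMul, Matrix.adjugate_mul, Matrix.vecMul_smul, Matrix.vecMul_one]
      rw [show z ᵥ* B.adjugate = B.det • w from funext hw, Matrix.smul_vecMul] at h1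
      simpa using congrFun h1 k
    · rintro ⟨w, rfl⟩
      refine Subtype.ext (funext fun i => ?_)
      show ((R * ((w ᵥ* B) ᵥ* B.adjugate) i : ℤ) : ZMod E) = 0
      rw [Matrix.vecMul_vecMul, Matrix.mul_adjugate, Matrix.vecMul_smul, Matrix.vecMul_one,
        Pi.smul_apply, smul_eq_mul, ← mul_assoc, mul_comm R, ← hR]
      simp
  have hinj : Function.Injective (Matrix.toLin' Bᵀ) := by
    intro a b h
    simp only [Matrix.toLin'_apply, Matrix.mulVec_transpose] at h
    funext i
    have h1 := congrArg (fun v => (v ᵥ* B.adjugate) i) h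
    simp only [Matrix.vecMul_vecMul, Matrix.mul_adjugate, Matrix.vecMul_smul, Matrix.vecMul_one,
      Pi.smul_apply, smul_eq_mul] at h1
    exact mul_left_cancel₀ hD h1
  rw [← Nat.card_congr (QuotientAddGroup.quotientKerEquivOfSurjective φ hsurj).toEquiv, hker]
  let f : (Fin r → ℤ) →ₗ[ℤ] (Fin r → ℤ) := Matrix.toLin' Bᵀ
  have h := Submodule.natAbs_det_equiv (LinearMap.range f) (LinearEquiv.ofInjective f hinj)
  have hcomp : (LinearMap.range f).subtype ∘ₗ
      AddMonoidHom.toIntLinearMap (LinearEquiv.ofInjective f hinj : (Fin r → ℤ) →+ LinearMap.range f) = f := by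
    ext x; rfl
  rw [hcomp, LinearMap.det_toLin', Matrix.det_transpose] at h
  rw [h]
  rfl

/-- The consequences of the eigenvalue modulo `ℓ`. -/
theorem cyclotomic_of_eigen {r : ℕ} (M : Matrix (Fin r) (Fin r) ℤ) {N e ℓ q : ℕ} [Fact ℓ.Prime]
    (he : 0 < e) (hr : e.totient = r) (hN : M ^ N = 1) (hN0 : 0 < N) (hℓN : ¬ ℓ ∣ N)
    (hq : IsPrimitiveRoot (q : ZMod ℓ) e) {a : Fin r → ZMod ℓ} (ha0 : a ≠ 0)
    (ha : a ᵥ* M.map (Int.castRingHom (ZMod ℓ)) = (q : ZMod ℓ) • a) :
    M.charpoly = cyclotomic e ℤ ∧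
      ∀ μ x : Fin r → ℤ, x ≠ 0 → (∀ i : ℕ, μ ⬝ᵥ (M ^ i *ᵥ x) = 0) → μ = 0 := by
  classical
  set Ml := M.map (Int.castRingHom (ZMod ℓ)) with hMl
  have hpow : ∀ k, a ᵥ* Ml ^ k = ((q : ZMod ℓ) ^ k) • a := by
    intro k
    induction k with
    | zero => simp
    | succ k ih =>
      rw [pow_succ, ← Matrix.vecMul_vecMul, ih, Matrix.smul_vecMul, ha, smul_smul, ← pow_succ]
  obtain ⟨i0, hi0⟩ := Function.ne_iff.1 ha0
  have heN : e ∣ N := by
    refine hq.dvd_of_pow_eq_one _ ?_
    have h1 : Ml ^ N = 1 := by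
      rw [hMl, ← RingHom.mapMatrix_apply, ← map_pow, hN, map_one]
    have h2 := hpow N
    rw [h1, Matrix.vecMul_one] at h2
    have h3 := congrFun h2 i0
    simp only [Pi.smul_apply, smul_eq_mul] at h3
    exact mul_right_cancel₀ hi0 (by rw [one_mul]; exact h3.symm)
  let Po : ℤ[X] := ∏ d ∈ N.divisors.erase e, cyclotomic d ℤ
  have hprod : cyclotomic e ℤ * Po = X ^ N - 1 := by
    rw [← prod_cyclotomic_eq_X_pow_sub_one hN0 ℤ, ← Finset.mul_prod_erase _ _
      (Nat.mem_divisors.2 ⟨heN, hN0.ne'⟩)]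
  have hPo : aeval M Po ≠ 0 := by
    intro h0
    have h1 : aeval Ml (Po.map (Int.castRingHom (ZMod ℓ))) = 0 := by
      rw [← algebraMap_int_eq, aeval_map_algebraMap]
      have := congrArg (Int.castRingHom (ZMod ℓ)).mapMatrix h0
      rw [map_zero] at this
      rw [← this]
      exact (aeval_algHom_apply (Int.castRingHom (ZMod ℓ)).mapMatrix.toIntAlgHom M Po)
    have h2 : ∀ f : (ZMod ℓ)[X], a ᵥ* aeval Ml f = f.eval (q : ZMod ℓ) • a := by
      intro f
      induction f using Polynomial.induction_on' with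
      | add f g hf hg => rw [map_add, Matrix.vecMul_add, hf, hg, eval_add, add_smul]
      | monomial k c =>
        rw [aeval_monomial, eval_monomial, Algebra.algebraMap_eq_smul_one, smul_one_mul,
          Matrix.vecMul_smul, hpow, smul_smul]
    have h3 := h2 (Po.map (Int.castRingHom (ZMod ℓ)))
    rw [h1, Matrix.vecMul_zero, eq_comm, smul_eq_zero, Polynomial.map_prod, eval_prod,
      Finset.prod_eq_zero_iff] at h3
    rcases h3 with ⟨d, hd, hd0⟩ | h3
    · rw [map_cyclotomic] at hd0
      obtain ⟨hde, hdN⟩ := Finset.mem_erase.1 hd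
      have : NeZero (d : ZMod ℓ) := ⟨fun h => hℓN (((ZMod.natCast_eq_zero_iff d ℓ).1 h).trans
        (Nat.dvd_of_mem_divisors hdN))⟩
      exact hde ((isRoot_cyclotomic_iff.1 hd0).unique hq)
    · exact ha0 h3
  set MQ := M.map (Int.castRingHom ℚ) with hMQ
  have hmapQ : ∀ f : ℤ[X], aeval MQ (f.map (Int.castRingHom ℚ)) = (aeval M f).map (Int.castRingHom ℚ) := by
    intro f
    rw [← algebraMap_int_eq, aeval_map_algebraMap]
    exact aeval_algHom_apply (Int.castRingHom ℚ).mapMatrix.toIntAlgHom M f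
  set Φ := cyclotomic e ℚ with hΦ
  have hirr : Irreducible Φ := cyclotomic.irreducible_rat he
  have hdeg : Φ.natDegree = r := by rw [hΦ, natDegree_cyclotomic, hr]
  have hindep : ∀ x : Fin r → ℚ, x ≠ 0 → aeval MQ Φ *ᵥ x = 0 →
      Submodule.span ℚ (Set.range fun i : Fin r => MQ ^ (i : ℕ) *ᵥ x) = ⊤ := by
    intro x hx hΦx
    refine LinearIndependent.span_eq_top_of_card_eq_finrank' ?_ (by simp)
    rw [Fintype.linearIndependent_iff]
    intro c hc i
    by_contra hci
    let f : ℚ[X] := ∑ j : Fin r, C (c j) * X ^ (j : ℕ)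
    have hfdeg : f.degree < (r : ℕ) := degree_sum_fin_lt c
    have hf0 : f ≠ 0 := by
      intro h0
      have := congrArg (fun g => g.coeff (i : ℕ)) h0
      simp [f, coeff_X_pow, Fin.val_inj] at this
      exact hci this
    have hfx : aeval MQ f *ᵥ x = 0 := by
      simp only [f, map_sum, map_mul, aeval_C, aeval_X_pow, Matrix.sum_mulVec]
      rw [← hc]
      refine Finset.sum_congr rfl fun j _ => ?_
      rw [← Algebra.smul_def, Matrix.smul_mulVec]
    have hcop : IsCoprime Φ f := by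
      refine hirr.coprime_iff_not_dvd.2 fun hdvd => ?_
      have h1 := natDegree_le_of_dvd hdvd hf0
      have h2 : f.natDegree < r := (natDegree_lt_iff_degree_lt hf0).2 hfdeg
      omega
    obtain ⟨u, v, huv⟩ := hcop
    refine hx ?_
    have h1 : aeval MQ (u * Φ + v * f) *ᵥ x = x := by rw [huv]; simp
    rw [← h1, map_add, map_mul, map_mul, Matrix.add_mulVec, ← Matrix.mulVec_mulVec,
      ← Matrix.mulVec_mulVec, hΦx, hfx]
    simp
  have hzero : aeval MQ Φ = 0 := by
    have hne : aeval MQ (Po.map (Int.castRingHom ℚ)) ≠ 0 := by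
      rw [hmapQ]
      intro h
      exact hPo (Matrix.map_injective Int.cast_injective (h.trans (Matrix.map_zero _ Int.cast_zero).symm))
    obtain ⟨j, hj⟩ : ∃ j, aeval MQ (Po.map (Int.castRingHom ℚ)) *ᵥ Pi.single j 1 ≠ 0 := by
      by_contra h
      push Not at h
      refine hne (Matrix.ext fun a b => ?_)
      simpa using congrFun (h b) a
    set x := aeval MQ (Po.map (Int.castRingHom ℚ)) *ᵥ Pi.single j 1
    have hΦx : aeval MQ Φ *ᵥ x = 0 := by
      rw [Matrix.mulVec_mulVec, ← map_mul, hΦ, ← map_cyclotomic e (Int.castRingHom ℚ),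
        ← Polynomial.map_mul, hprod, hmapQ]
      simp only [map_sub, map_pow, aeval_X, map_one, hN, sub_self, Matrix.map_zero _ Int.cast_zero]
      ext a
      simp [Matrix.mulVec, dotProduct]
    have hspan := hindep x hj hΦx
    have hker : Submodule.span ℚ (Set.range fun i : Fin r => MQ ^ (i : ℕ) *ᵥ x) ≤
        LinearMap.ker (Matrix.toLin' (aeval MQ Φ)) := by
      rw [Submodule.span_le]
      rintro _ ⟨i, rfl⟩
      show Matrix.toLin' (aeval MQ Φ) _ = 0
      rw [Matrix.toLin'_apply, Matrix.mulVec_mulVec, ← aeval_X_pow (R := ℚ) MQ, ← map_mul,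
        mul_comm, map_mul, ← Matrix.mulVec_mulVec, hΦx, Matrix.mulVec_zero]
    rw [hspan, top_le_iff, LinearMap.ker_eq_top] at hker
    exact Matrix.toLin'.injective (hker.trans (map_zero _).symm)
  refine ⟨?_, fun μ x hx h => ?_⟩
  · have : Nonempty (Fin r) := ⟨i0⟩
    have hmin : Φ = minpoly ℚ MQ :=
      minpoly.eq_of_irreducible_of_monic hirr hzero (cyclotomic.monic _ _)
    have hdvd : Φ ∣ MQ.charpoly := hmin ▸ Matrix.minpoly_dvd_charpoly MQ
    have heq : Φ = MQ.charpoly := (eq_of_monic_of_dvd_of_natDegree_le (cyclotomic.monic _ _)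
      (Matrix.charpoly_monic _) hdvd (by rw [Matrix.charpoly_natDegree_eq_dim, hdeg]; simp)).symm
    refine map_injective (Int.castRingHom ℚ) Int.cast_injective ?_
    rw [map_cyclotomic, ← Matrix.charpoly_map]
    exact heq.symm
  · have hxQ : (fun i => (x i : ℚ)) ≠ 0 := fun h0 => hx (funext fun i => by
      have := congrFun h0 i
      simpa using this)
    have hspan := hindep _ hxQ (by rw [hzero, Matrix.zero_mulVec])
    let L : (Fin r → ℚ) →ₗ[ℚ] ℚ :=
      { toFun := fun y => (fun i => (μ i : ℚ)) ⬝ᵥ y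
        map_add' := fun y z => dotProduct_add _ _ _
        map_smul' := fun c y => by simp [dotProduct_smul] }
    have hker : Submodule.span ℚ (Set.range fun i : Fin r => MQ ^ (i : ℕ) *ᵥ fun k => (x k : ℚ)) ≤
        LinearMap.ker L := by
      rw [Submodule.span_le]
      rintro _ ⟨i, rfl⟩
      show (fun i => (μ i : ℚ)) ⬝ᵥ (MQ ^ (i : ℕ) *ᵥ fun k => (x k : ℚ)) = 0
      have h1 : MQ ^ (i : ℕ) *ᵥ (fun k => (x k : ℚ)) = fun k => (((M ^ (i : ℕ) *ᵥ x) k : ℤ) : ℚ) := by
        rw [hMQ, ← RingHom.mapMatrix_apply, ← map_pow]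
        exact funext fun k => (RingHom.map_mulVec (Int.castRingHom ℚ) _ _ k).symm
      rw [h1]
      have h2 := congrArg (fun z : ℤ => (z : ℚ)) (h i)
      simpa [dotProduct] using h2
    rw [hspan, top_le_iff, LinearMap.ker_eq_top] at hker
    funext k
    have := LinearMap.congr_fun hker (Pi.single k 1)
    simpa [L] using this

/-- A finite abelian group with at most `p` solutions of `p x = 0` for all primes `p` is cyclic. -/
theorem isAddCyclic_of_prime_torsion {A : Type*} [AddCommGroup A] [Finite A]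
    (h : ∀ p : ℕ, p.Prime → Nat.card (nsmulAddMonoidHom (α := A) p).ker ≤ p) : IsAddCyclic A := by
  classical
  have : Fintype A := Fintype.ofFinite A
  have key : ∀ n, 0 < n → Nat.card (nsmulAddMonoidHom (α := A) n).ker ≤ n := by
    intro n
    induction n using Nat.strong_induction_on with
    | _ n ih =>
    intro hn
    rcases eq_or_ne n 1 with rfl | h1
    · have : Subsingleton (nsmulAddMonoidHom (α := A) 1).ker :=
        ⟨fun a b => Subtype.ext (by
          have ha : (1 : ℕ) • (a : A) = 0 := a.2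
          have hb : (1 : ℕ) • (b : A) = 0 := b.2
          rw [one_smul] at ha hb
          rw [ha, hb])⟩
      exact (Nat.card_of_subsingleton (0 : (nsmulAddMonoidHom (α := A) 1).ker)).le
    obtain ⟨m, hm⟩ := Nat.minFac_dvd n
    have hp := Nat.minFac_prime h1
    have hm0 : 0 < m := Nat.pos_of_mul_pos_left (hm ▸ hn)
    have hmn : m < n := by rw [hm]; exact (Nat.lt_mul_iff_one_lt_left hm0).2 hp.one_lt
    let f : (nsmulAddMonoidHom (α := A) n).ker →+ (nsmulAddMonoidHom (α := A) m).ker :=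
      { toFun := fun x => ⟨n.minFac • (x : A), by
          show m • n.minFac • (x : A) = 0
          rw [smul_smul, mul_comm, ← hm]; exact x.2⟩
        map_zero' := Subtype.ext (smul_zero _)
        map_add' := fun x y => Subtype.ext (smul_add _ _ _) }
    rw [AddSubgroup.card_eq_card_quotient_mul_card_addSubgroup f.ker]
    calc Nat.card ((nsmulAddMonoidHom (α := A) n).ker ⧸ f.ker) * Nat.card f.ker
        ≤ m * n.minFac := by
          refine Nat.mul_le_mul ?_ ?_
          · rw [Nat.card_congr (QuotientAddGroup.quotientKerEquivRange f).toEquiv]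
            exact (Nat.card_le_card_of_injective _ Subtype.val_injective).trans (ih m hmn hm0)
          · refine le_trans (Nat.card_le_card_of_injective
              (fun x : f.ker => (⟨((x : (nsmulAddMonoidHom (α := A) n).ker) : A),
                congrArg Subtype.val x.2⟩ : (nsmulAddMonoidHom (α := A) n.minFac).ker))
              fun x y hxy => Subtype.ext (Subtype.ext (congrArg Subtype.val hxy :))) (h _ hp)
      _ = n := by rw [mul_comm, ← hm]
  refine isAddCyclic_of_card_nsmul_eq_zero_le fun n hn => ?_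
  refine le_trans (le_of_eq ?_) (key n hn)
  rw [← Fintype.card_subtype, ← Nat.card_eq_fintype_card]
  rfl

/-- The kernel of `M - q` modulo `E` is cyclic of order `Φ_e(q)`. -/
theorem sol_cyclic {r : ℕ} (M : Matrix (Fin r) (Fin r) ℤ) {e q E P : ℕ}
    (hc : M.charpoly = cyclotomic e ℤ) (hP : ((cyclotomic e ℤ).eval (q : ℤ)) = (P : ℤ))
    (hP0 : P ≠ 0) (hE : E ≠ 0) (hPE : P ∣ E)
    (hsq : ∀ p : ℕ, p.Prime → p ^ 2 ∣ P → ¬ p ∣ e) :
    IsAddCyclic (sol E (M - (q : ℤ) • 1)) ∧ Nat.card (sol E (M - (q : ℤ) • 1)) = P := by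
  classical
  have : NeZero E := ⟨hE⟩
  set B := M - (q : ℤ) • (1 : Matrix (Fin r) (Fin r) ℤ) with hB
  have hdet : B.det = (-1) ^ r * (P : ℤ) := by
    rw [show B = -(Matrix.scalar (Fin r) (q : ℤ) - M) by
      rw [neg_sub, hB, Matrix.smul_one_eq_diagonal]; rfl, Matrix.det_neg,
      ← Matrix.eval_charpoly, hc, hP, Fintype.card_fin]
  have hcard : Nat.card (sol E B) = P := by
    rw [card_sol B hE (by rw [hdet]; simp [hP0]) ?_, hdet, Int.natAbs_mul, Int.natAbs_pow]
    · simp
    · rw [hdet]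
      rcases neg_one_pow_eq_or ℤ r with h | h <;> rw [h]
      · simpa using Int.natCast_dvd_natCast.2 hPE
      · simpa using Int.natCast_dvd_natCast.2 hPE
  refine ⟨?_, hcard⟩
  refine isAddCyclic_of_prime_torsion fun p hp => ?_
  have : Fact p.Prime := ⟨hp⟩
  set T := (nsmulAddMonoidHom (α := sol E B) p).ker
  have hpg : ∃ k, Nat.card T = p ^ k := by
    refine IsPGroup.exists_card_eq (p := p) (G := Multiplicative T) (fun x => ⟨1, ?_⟩)
    rw [pow_one]
    have hx : p • ((Multiplicative.toAdd x : T) : sol E B) = 0 := (Multiplicative.toAdd x : T).2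
    exact Multiplicative.toAdd.injective (Subtype.ext (by simpa using hx))
  obtain ⟨k, hk⟩ := hpg
  rcases Nat.lt_or_ge k 2 with hk2 | hk2
  · calc Nat.card T = p ^ k := hk
      _ ≤ p ^ 1 := Nat.pow_le_pow_right hp.pos (by omega)
      _ = p := pow_one p
  have hp2 : p ^ 2 ∣ P := by
    rw [← hcard]
    exact ((pow_dvd_pow p hk2).trans hk.symm.dvd).trans (AddSubgroup.card_addSubgroup_dvd_card T)
  have hpe := hsq p hp hp2
  have : NeZero (e : ZMod p) := ⟨fun h => hpe ((ZMod.natCast_eq_zero_iff e p).1 h)⟩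
  obtain ⟨R, hR⟩ : p ∣ E := ((dvd_pow_self p two_ne_zero).trans hp2).trans hPE
  have hR0 : 0 < R := Nat.pos_of_ne_zero fun h => hE (by rw [hR, h, mul_zero])
  -- the reduced kernel
  set Mp := Matrix.toLin' (M.map (Int.castRingHom (ZMod p)))ᵀ with hMp
  have hdim : Module.finrank (ZMod p) (Module.End.eigenspace Mp (q : ZMod p)) ≤ 1 := by
    refine (LinearMap.finrank_eigenspace_le Mp _).trans ?_
    rw [hMp, Matrix.charpoly_toLin', Matrix.charpoly_transpose, Matrix.charpoly_map, hc,
      map_cyclotomic]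
    exact rootMultiplicity_le_one_of_separable (separable_cyclotomic e (ZMod p)) _
  have hle : Nat.card (Module.End.eigenspace Mp (q : ZMod p)) ≤ p := by
    rw [Module.natCard_eq_pow_finrank (K := ZMod p), Nat.card_zmod]
    exact (Nat.pow_le_pow_right hp.pos hdim).trans (pow_one p).le
  refine le_trans ?_ hle
  have hlift : ∀ x : T, ∀ i, R ∣ (((x : sol E B) : Fin r → ZMod E) i).val := by
    intro x i
    have hx : p • ((x : sol E B) : Fin r → ZMod E) = 0 := congrArg Subtype.val x.2
    have h1 : ((p * (((x : sol E B) : Fin r → ZMod E) i).val : ℕ) : ZMod E) = 0 := by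
      rw [Nat.cast_mul, ZMod.natCast_zmod_val, ← nsmul_eq_mul]
      exact congrFun hx i
    rw [ZMod.natCast_eq_zero_iff] at h1
    exact Nat.dvd_of_mul_dvd_mul_left hp.pos (hR.symm.dvd.trans h1)
  choose z hz using fun x : T => fun i => hlift x i
  refine Nat.card_le_card_of_injective (fun x : T => (⟨fun i => (z x i : ZMod p), ?_⟩ :
    Module.End.eigenspace Mp (q : ZMod p))) fun x y hxy => ?_
  · rw [Module.End.mem_eigenspace_iff, hMp, Matrix.toLin'_apply, Matrix.mulVec_transpose]
    let Z : Fin r → ℤ := fun i => (z x i : ℤ)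
    have hx : ((x : sol E B) : Fin r → ZMod E) ᵥ* B.map (Int.castRingHom (ZMod E)) = 0 := (x : sol E B).2
    have hxe : ((x : sol E B) : Fin r → ZMod E) = fun i => (((R : ℤ) • Z) i : ZMod E) := funext fun i => by
      conv_lhs => rw [← ZMod.natCast_zmod_val (((x : sol E B) : Fin r → ZMod E) i), hz x i]
      simp [Z]
    rw [hxe, cast_vecMul] at hx
    funext k
    have h1 := (ZMod.intCast_zmod_eq_zero_iff_dvd _ _).1 (congrFun hx k)
    rw [Matrix.smul_vecMul, Pi.smul_apply, smul_eq_mul, hR, Nat.cast_mul, mul_comm (p : ℤ)] at h1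
    have h2 : (((Z ᵥ* B) k : ℤ) : ZMod p) = 0 :=
      (ZMod.intCast_zmod_eq_zero_iff_dvd _ _).2 (Int.dvd_of_mul_dvd_mul_left (by exact_mod_cast hR0.ne') h1)
    rw [hB, Matrix.vecMul_sub, Matrix.vecMul_smul, Matrix.vecMul_one, Pi.sub_apply, Pi.smul_apply,
      smul_eq_mul, Int.cast_sub, sub_eq_zero] at h2
    have h3 := congrFun (cast_vecMul p Z M) k
    simp only [Z, Int.cast_natCast] at h3
    rw [h3, h2]
    simp [Z]
  · refine Subtype.ext (Subtype.ext (funext fun i => ?_))
    have h1 := congrFun (congrArg Subtype.val hxy) i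
    have h2 : z x i = z y i := by
      have hb : ∀ w : T, z w i < p := fun w => by
        by_contra hge
        have h3 := ZMod.val_lt (((w : sol E B) : Fin r → ZMod E) i)
        rw [hz w i, hR, mul_comm p R] at h3
        exact hge (Nat.lt_of_mul_lt_mul_left h3)
      have := (ZMod.natCast_eq_natCast_iff' _ _ p).1 h1
      rwa [Nat.mod_eq_of_lt (hb x), Nat.mod_eq_of_lt (hb y)] at this
    rw [← ZMod.natCast_zmod_val (((x : sol E B) : Fin r → ZMod E) i),
      ← ZMod.natCast_zmod_val (((y : sol E B) : Fin r → ZMod E) i), hz x i, hz y i, h2]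

end CfsgLib.Chevalley.CoxeterTorus
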